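import Groth.Agent.Etcore.LimEt
import Groth.Agent.Etcore.HpVia
import Groth.Agent.EtpbcB.IndEtDirected
import Groth.Agent.S0101

/-!
# Vanishing of étale cohomology along composites, isomorphisms and ind-étale algebras

* `subsingleton_comp_iff`: `H^q(X, (f ≫ t)⁻¹ G)` vanishes iff `H^q(X, f⁻¹ t⁻¹ G)` does.
* `subsingleton_of_isIso`: transport along an isomorphism of schemes.
* `subsingleton_of_limit`: vanishing on a cofiltered limit of affine schemes from vanishing at all stages.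
* `subsingleton_of_isIndEtale`: if `H^q(V, F|_V) = 0` for all affine étale `V → Spec A` then
  `H^q(Spec B, F|_{Spec B}) = 0` for every ind-étale `A`-algebra `B`.
-/

set_option autoImplicit false
universe u

open CategoryTheory CategoryTheory.Limits AlgebraicGeometry Opposite
open scoped Groth.Agent.Etcore.EtInst
open Groth.Agent Groth.Agent.Etcore Groth.Agent.Etcore.EtInst Groth.Agent.Etcore.HpullCalc Groth.Agent.Etcore.PullCoh

namespace K985.IndEtVan

variable {X Y Z : Scheme.{u}}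

theorem subsingleton_comp_iff (f : X ⟶ Y) (t : Y ⟶ Z) (f₀ : X ⟶ Z) (w : f ≫ t = f₀) (G : EtCoh.Ab Z)
    (q : ℕ) : Subsingleton (HH X ((EtCoh.pull f₀).obj G) q) ↔
      Subsingleton (HH X ((EtCoh.pull f).obj ((EtCoh.pull t).obj G)) q) := by
  have h := HHmap_bijective (F := (EtCoh.pull f).obj ((EtCoh.pull t).obj G))
    (G := (EtCoh.pull f₀).obj G)
    ((EtCore.pullComp f t).inv.app G ≫ (EtCore.pullCongr w).hom.app G) q
  exact ⟨fun _ => h.1.subsingleton, fun _ => h.2.subsingleton⟩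

theorem subsingleton_of_isIso (f : X ⟶ Y) [IsIso f] (G : EtCoh.Ab Y) (q : ℕ)
    (h : Subsingleton (HH Y G q)) : Subsingleton (HH X ((EtCoh.pull f).obj G) q) := by
  have i1 : PreservesFiniteLimits (EtCoh.pull f) := S0101.result f
  exact (HpVia.hp_bijective_of_isIso f G q).2.subsingleton

theorem subsingleton_of_isIso' (f : X ⟶ Y) [IsIso f] (G : EtCoh.Ab Y) (q : ℕ)
    (h : Subsingleton (HH X ((EtCoh.pull f).obj G) q)) : Subsingleton (HH Y G q) := by
  have i1 : PreservesFiniteLimits (EtCoh.pull f) := S0101.result f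
  exact (HpVia.hp_bijective_of_isIso f G q).1.subsingleton

theorem subsingleton_of_limit_aux {I : Type u} [SmallCategory I] [IsCofiltered I] {D : I ⥤ Scheme.{u}}
  [∀ {i j} (f : i ⟶ j), IsAffineHom (D.map f)] {S : Scheme.{u}}
  (p : ∀ i, S ⟶ D.obj i) (hp : ∀ {x y : I} (f : x ⟶ y), p x ≫ D.map f = p y)
  (hc : IsLimit (Cone.mk S ({ app := p, naturality := fun _ _ f => (Category.id_comp _).trans (hp f).symm } : (Functor.const I).obj S ⟶ D))) {X : Scheme.{u}} (t : ∀ i, D.obj i ⟶ X)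
  (ht : ∀ {x y : I} (f : x ⟶ y), D.map f ≫ t y = t x) {q : S ⟶ X}
  (hq : ∀ j, p j ≫ t j = q) (G : EtCoh.Ab X)
  [∀ i, CompactSpace (D.obj i)] [∀ i, QuasiSeparatedSpace (D.obj i)] (n : ℕ)
  (h : ∀ j, Subsingleton (HH (D.obj j) ((EtCoh.pull (t j)).obj G) n)) :
    Subsingleton (HH S ((EtCoh.pull q).obj G) n) := by
  have : ∀ i, PreservesFiniteLimits (EtCoh.pull (p i)) := fun i => S0101.result (p i)
  have key := LimEt.exists_hpVia_eq p hp hc t ht hq G n
  have key2 : ∀ a : HH S ((EtCoh.pull q).obj G) n, a = 0 := by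
    intro a
    obtain ⟨j, x, hx⟩ := key a
    rw [← hx, (h j).elim x 0]
    exact map_zero _
  exact ⟨fun a b => (key2 a).trans (key2 b).symm⟩

theorem subsingleton_of_limit {I : Type u} [SmallCategory I] [IsCofiltered I] {D : I ⥤ Scheme.{u}}
    {S : Scheme.{u}} (π : (Functor.const I).obj S ⟶ D)
    (hc : IsLimit (Cone.mk S π)) {X : Scheme.{u}} (t : ∀ i, D.obj i ⟶ X)
    (ht : ∀ (x y : I) (f : x ⟶ y), D.map f ≫ t y = t x) {q : S ⟶ X}
    (hq : ∀ j, π.app j ≫ t j = q) (G : EtCoh.Ab X)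
    (haff : ∀ i, IsAffine (D.obj i)) (n : ℕ)
    (h : ∀ j, Subsingleton (HH (D.obj j) ((EtCoh.pull (t j)).obj G) n)) :
    Subsingleton (HH S ((EtCoh.pull q).obj G) n) := by
  have : ∀ {i j : I} (f : i ⟶ j), IsAffineHom (D.map f) := fun {i j} f => inferInstance
  exact subsingleton_of_limit_aux (fun i => π.app i) (fun {x y} f => (π.naturality f).symm.trans (Category.id_comp _)) hc t
    (fun {x y} f => ht x y f) hq G n h

theorem subsingleton_of_isIndEtale {A B : Type u} [CommRing A] [CommRing B] [Algebra A B]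
    (h : EtPBC.IsIndEtale A B) (F : EtCoh.Ab (Spec (CommRingCat.of A))) (q : ℕ)
    (hF : ∀ (V : Scheme.{u}) (j : V ⟶ Spec (CommRingCat.of A)) [IsAffine V] [Etale j],
      Subsingleton (HH V ((EtCoh.pull j).obj F) q)) :
    Subsingleton (HH (Spec (CommRingCat.of B))
      ((EtCoh.pull (Spec.map (CommRingCat.ofHom (algebraMap A B)))).obj F) q) := by
  obtain ⟨ι, i1, i2, i3, T, π, hπ, τ, h1, h2, h3, h4⟩ := EtpbcB.IndEtDirected.exists_system h
  exact subsingleton_of_limit π hπ τ h1 h2 F h3 q (fun j => by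
    have hj := h3 j
    have hj' := h4 j
    exact hF (T.obj j) (τ j))

end K985.IndEtVan
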