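import Groth.Agent.S0121
import Groth.Agent.Sga4A.HensClosed2
import Groth.Agent.Etcore.Torsion
import Groth.Agent.EtPBC.K985.HensIndEtale
import Groth.Agent.EtPBC.K985.IndEtVan

/-!
# Cohomology of a closed subscheme of an affine scheme

If `X` is affine, `F` a torsion abelian étale sheaf on `X` with `H^q(V, F|_V) = 0` for all affine étale
`V → X` and `i : Z → X` is a closed immersion then `H^q(Z, i⁻¹ F) = 0` (`affine_case`).
-/

set_option autoImplicit false
universe u

open CategoryTheory CategoryTheory.Limits AlgebraicGeometry Opposite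
open scoped Groth.Agent.Etcore.EtInst
open Groth.Agent Groth.Agent.Etcore Groth.Agent.Etcore.EtInst K985.IndEtVan

namespace K985.ClosedAffine

theorem quot_case (A : Type u) [CommRing A] (J : Ideal A) (F : EtCoh.Ab (Spec (CommRingCat.of A)))
    (hT : EtCoh.IsTorsion F) (q : ℕ)
    (hF : ∀ (V : Scheme.{u}) (j : V ⟶ Spec (CommRingCat.of A)) [IsAffine V] [Etale j],
      Subsingleton (HH V ((EtCoh.pull j).obj F) q)) :
    Subsingleton (HH (Spec (CommRingCat.of (A ⧸ J)))
      ((EtCoh.pull (Spec.map (CommRingCat.ofHom (Ideal.Quotient.mk J)))).obj F) q) := by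
  obtain ⟨B, _, _, hB⟩ : ∃ (B : Type u) (_ : CommRing B) (_ : Algebra A B),
      Hens2.IsPairHenselization A J B :=
    ⟨_, inferInstance, inferInstance, Etalg.PairHens.isPairHenselization_Hens A J⟩
  let JB : Ideal B := J.map (algebraMap A B)
  have hH : HenselianRing B JB := hB.1
  let p : Spec (CommRingCat.of B) ⟶ Spec (CommRingCat.of A) :=
    Spec.map (CommRingCat.ofHom (algebraMap A B))
  let i : Spec (CommRingCat.of (A ⧸ J)) ⟶ Spec (CommRingCat.of A) :=
    Spec.map (CommRingCat.ofHom (Ideal.Quotient.mk J))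
  let i' : Spec (CommRingCat.of (B ⧸ JB)) ⟶ Spec (CommRingCat.of B) :=
    Spec.map (CommRingCat.ofHom (Ideal.Quotient.mk JB))
  let φ : A ⧸ J →+* B ⧸ JB := Ideal.quotientMap JB (algebraMap A B) Ideal.le_comap_map
  have hφ : Function.Bijective φ := Etalg.PairHens2.quot_bijective B hB
  let e : Spec (CommRingCat.of (B ⧸ JB)) ⟶ Spec (CommRingCat.of (A ⧸ J)) :=
    Spec.map (CommRingCat.ofHom φ)
  have he : IsIso e := by
    have : IsIso (CommRingCat.ofHom φ) :=
      (RingEquiv.ofBijective φ hφ).toCommRingCatIso.isIso_hom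
    infer_instance
  have w : e ≫ i = i' ≫ p := by
    change Spec.map _ ≫ Spec.map _ = Spec.map _ ≫ Spec.map _
    rw [← Spec.map_comp, ← Spec.map_comp]
    rfl
  -- vanishing on the henselization
  have h1 : Subsingleton (HH (Spec (CommRingCat.of B)) ((EtCoh.pull p).obj F) q) :=
    subsingleton_of_isIndEtale (HensIndEtale.isIndEtale_of_isPairHenselization hB) F q hF
  have h2 : EtCoh.IsTorsion ((EtCoh.pull p).obj F) := Etcore.Torsion.isTorsion_pull p F hT
  have hci : IsClosedImmersion i' :=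
    IsClosedImmersion.spec_of_surjective _ Ideal.Quotient.mk_surjective
  have := EtpbcA.ClosedPushExact.push_preservesFiniteColimits i'
  have : PreservesFiniteLimits (EtCoh.pull i') := S0101.result i'
  have h3 := Sga4A.HensClosed.Hpull_bijective_of_unit i' ((EtCoh.pull p).obj F) q
    (S0121.result B JB _ h2 q)
  have h4 : Subsingleton (HH (Spec (CommRingCat.of (B ⧸ JB)))
      ((EtCoh.pull i').obj ((EtCoh.pull p).obj F)) q) := h3.2.subsingleton
  have h5 := (subsingleton_comp_iff i' p (e ≫ i) w.symm F q).2 h4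
  have h6 := (subsingleton_comp_iff e i (e ≫ i) rfl F q).1 h5
  exact subsingleton_of_isIso' e _ q h6

theorem affine_case {X Z : Scheme.{u}} [IsAffine X] (i : Z ⟶ X) [IsClosedImmersion i]
    (F : EtCoh.Ab X) (hT : EtCoh.IsTorsion F) (q : ℕ)
    (hF : ∀ (V : Scheme.{u}) (j : V ⟶ X) [IsAffine V] [Etale j],
      Subsingleton (HH V ((EtCoh.pull j).obj F) q)) :
    Subsingleton (HH Z ((EtCoh.pull i).obj F) q) := by
  let R : CommRingCat.{u} := Γ(X, ⊤)
  let φ : X ⟶ Spec R := X.isoSpec.hom
  let ψ : Spec R ⟶ X := X.isoSpec.inv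
  let F' : EtCoh.Ab (Spec R) := (EtCoh.pull ψ).obj F
  have hT' : EtCoh.IsTorsion F' := Etcore.Torsion.isTorsion_pull ψ F hT
  have hF' : ∀ (V : Scheme.{u}) (j : V ⟶ Spec R) [IsAffine V] [Etale j],
      Subsingleton (HH V ((EtCoh.pull j).obj F') q) := fun V j _ _ =>
    (subsingleton_comp_iff j ψ (j ≫ ψ) rfl F q).1 (hF V (j ≫ ψ))
  have hc : IsClosedImmersion (i ≫ φ) := inferInstance
  obtain ⟨J, e, he⟩ := IsClosedImmersion.Spec_iff.1 hc
  have h1 := quot_case R J F' hT' q hF'
  have h2 := subsingleton_of_isIso e.hom _ q h1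
  have h3 := (subsingleton_comp_iff e.hom _ (i ≫ φ) he.symm F' q).2 h2
  have w : (i ≫ φ) ≫ ψ = i := by
    rw [Category.assoc, Iso.hom_inv_id, Category.comp_id]
  exact (subsingleton_comp_iff (i ≫ φ) ψ i w F q).2 h3

end K985.ClosedAffine
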