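import Groth.Agent.S0659
import Groth.Agent.EtPBC.K985.ClosedAffine

/-!
# Vanishing of cohomology of closed subschemes by induction on an affine covering
-/

set_option autoImplicit false
universe u

open CategoryTheory CategoryTheory.Limits AlgebraicGeometry Opposite
open scoped Groth.Agent.Etcore.EtInst
open Groth.Agent Groth.Agent.Etcore Groth.Agent.Etcore.EtInst K985.IndEtVan

namespace K985.CovVan

theorem mv_van_aux (X : Scheme.{u}) (U V : X.Opens) (hUV : U ⊔ V = ⊤) (F : EtCoh.Ab X) (q : ℕ)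
    (h1 : Subsingleton (EtCoh.H (U : Scheme.{u}) ((EtCoh.pull U.ι).obj F) (q + 1)))
    (h2 : Subsingleton (EtCoh.H (V : Scheme.{u}) ((EtCoh.pull V.ι).obj F) (q + 1)))
    (h3 : Subsingleton (EtCoh.H ((U ⊓ V : X.Opens) : Scheme.{u})
      ((EtCoh.pull (U ⊓ V).ι).obj F) q)) :
    Subsingleton (EtCoh.H X F (q + 1)) := by
  have i1 : PreservesFiniteLimits (EtCoh.pull U.ι) := S0101.result _
  have i2 : PreservesFiniteLimits (EtCoh.pull V.ι) := S0101.result _
  have i3 : PreservesFiniteLimits (EtCoh.pull (X.homOfLE (inf_le_left : U ⊓ V ≤ U))) :=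
    S0101.result _
  have i4 : PreservesFiniteLimits (EtCoh.pull (X.homOfLE (inf_le_right : U ⊓ V ≤ V))) :=
    S0101.result _
  obtain ⟨δ, -, h, -, -⟩ := S0659.result X U V hUV F
  have key : ∀ x : EtCoh.H X F (q + 1), x = 0 := by
    intro x
    have hx : x ∈ (AddMonoidHom.prod (EtCore.Hpull U.ι F (q + 1))
        (EtCore.Hpull V.ι F (q + 1))).ker := by
      rw [AddMonoidHom.mem_ker]
      exact Prod.ext (Subsingleton.elim _ _) (Subsingleton.elim _ _)
    rw [h q] at hx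
    obtain ⟨y, rfl⟩ := hx
    rw [Subsingleton.elim y 0, map_zero]
  exact ⟨fun a b => (key a).trans (key b).symm⟩

theorem mv_van (X : Scheme.{u}) (U V : X.Opens) (hUV : U ⊔ V = ⊤) (F : EtCoh.Ab X) (q : ℕ)
    (h1 : Subsingleton (HH (U : Scheme.{u}) ((EtCoh.pull U.ι).obj F) (q + 1)))
    (h2 : Subsingleton (HH (V : Scheme.{u}) ((EtCoh.pull V.ι).obj F) (q + 1)))
    (h3 : Subsingleton (HH ((U ⊓ V : X.Opens) : Scheme.{u})
      ((EtCoh.pull (U ⊓ V).ι).obj F) q)) :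
    Subsingleton (HH X F (q + 1)) := by
  have i1 : PreservesFiniteLimits (EtCoh.pull U.ι) := S0101.result _
  have i2 : PreservesFiniteLimits (EtCoh.pull V.ι) := S0101.result _
  have i3 : PreservesFiniteLimits (EtCoh.pull (X.homOfLE (inf_le_left : U ⊓ V ≤ U))) :=
    S0101.result _
  have i4 : PreservesFiniteLimits (EtCoh.pull (X.homOfLE (inf_le_right : U ⊓ V ≤ V))) :=
    S0101.result _
  obtain ⟨δ, -, h, -, -⟩ := S0659.result X U V hUV F
  have key : ∀ x : HH X F (q + 1), x = 0 := by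
    intro x
    have hx : x ∈ (AddMonoidHom.prod (EtCore.Hpull U.ι F (q + 1))
        (EtCore.Hpull V.ι F (q + 1))).ker := by
      rw [AddMonoidHom.mem_ker]
      exact Prod.ext (Subsingleton.elim _ _) (Subsingleton.elim _ _)
    rw [h q] at hx
    obtain ⟨y, rfl⟩ := hx
    rw [Subsingleton.elim y 0, map_zero]
  exact ⟨fun a b => (key a).trans (key b).symm⟩

theorem transport {Z S₁ S₂ : Scheme.{u}} (a : S₁ ⟶ Z) (b : S₂ ⟶ Z) [IsOpenImmersion a]
    [IsOpenImmersion b] (h : Set.range a = Set.range b) (G : EtCoh.Ab Z) (q : ℕ)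
    (hq : Subsingleton (HH S₁ ((EtCoh.pull a).obj G) q)) :
    Subsingleton (HH S₂ ((EtCoh.pull b).obj G) q) := by
  let e := IsOpenImmersion.isoOfRangeEq b a h.symm
  have w : e.hom ≫ a = b := IsOpenImmersion.isoOfRangeEq_hom_fac b a h.symm
  exact (subsingleton_comp_iff e.hom a b w G q).2 (subsingleton_of_isIso e.hom _ q hq)

section Cov

variable {X Z : Scheme.{u}} (i : Z ⟶ X) [IsClosedImmersion i] (F : EtCoh.Ab X)

theorem affine_open_case (hT : EtCoh.IsTorsion F) (q : ℕ)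
    (hF : ∀ (V : Scheme.{u}) (j : V ⟶ X) [IsAffine V] [Etale j],
      Subsingleton (HH V ((EtCoh.pull j).obj F) q))
    (W : X.Opens) (hW : IsAffineOpen W) :
    Subsingleton (HH ((i ⁻¹ᵁ W : Z.Opens) : Scheme.{u})
      ((EtCoh.pull (i ⁻¹ᵁ W).ι).obj ((EtCoh.pull i).obj F)) q) := by
  have : IsAffine (W : Scheme.{u}) := hW
  have h1 := ClosedAffine.affine_case (i ∣_ W) ((EtCoh.pull W.ι).obj F)
    (Etcore.Torsion.isTorsion_pull W.ι F hT) q (fun V j _ _ =>
      (subsingleton_comp_iff j W.ι (j ≫ W.ι) rfl F q).1 (hF V (j ≫ W.ι)))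
  have h2 := (subsingleton_comp_iff (i ∣_ W) W.ι _ rfl F q).2 h1
  exact (subsingleton_comp_iff (i ⁻¹ᵁ W).ι i _ (morphismRestrict_ι i W).symm F q).1 h2

theorem cov_case (hΔ : ∀ U V : X.Opens, IsAffineOpen U → IsAffineOpen V → IsAffineOpen (U ⊓ V))
    (hT : EtCoh.IsTorsion F)
    (hF : ∀ (q : ℕ), 0 < q → ∀ (V : Scheme.{u}) (j : V ⟶ X) [IsAffine V] [Etale j],
      Subsingleton (HH V ((EtCoh.pull j).obj F) q)) (n : ℕ) :
    ∀ (W : Fin (n + 1) → X.Opens) (_ : ∀ k, IsAffineOpen (W k)) (q : ℕ) (_ : n < q),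
      Subsingleton (HH ((i ⁻¹ᵁ (⨆ k, W k) : Z.Opens) : Scheme.{u})
        ((EtCoh.pull (i ⁻¹ᵁ (⨆ k, W k)).ι).obj ((EtCoh.pull i).obj F)) q) := by
  induction n with
  | zero =>
    intro W hW q hq
    have h1 : (⨆ k, W k) = W 0 :=
      le_antisymm (iSup_le fun k => by rw [show k = 0 from Fin.ext (by omega)]) (le_iSup W 0)
    rw [h1]
    exact affine_open_case i F hT q (hF q hq) (W 0) (hW 0)
  | succ n ih =>
    intro W hW q hq
    obtain ⟨p, rfl⟩ : ∃ p, q = p + 1 := ⟨q - 1, by omega⟩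
    let U : X.Opens := W (Fin.last (n + 1))
    let V : X.Opens := ⨆ k : Fin (n + 1), W k.castSucc
    have hUV : (⨆ k, W k) = U ⊔ V := by
      apply le_antisymm
      · refine iSup_le fun k => ?_
        induction k using Fin.lastCases with
        | last => exact le_sup_left
        | cast k => exact (le_iSup (fun k : Fin (n + 1) => W k.castSucc) k).trans le_sup_right
      · exact sup_le (le_iSup W _) (iSup_le fun k => le_iSup W _)
    let G := (EtCoh.pull i).obj F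
    let T : Z.Opens := i ⁻¹ᵁ (⨆ k, W k)
    let U' : (T : Scheme.{u}).Opens := T.ι ⁻¹ᵁ (i ⁻¹ᵁ U)
    let V' : (T : Scheme.{u}).Opens := T.ι ⁻¹ᵁ (i ⁻¹ᵁ V)
    have hT1 : T = i ⁻¹ᵁ U ⊔ i ⁻¹ᵁ V := by
      change i ⁻¹ᵁ (⨆ k, W k) = _
      rw [hUV]
      rfl
    have hU'V' : U' ⊔ V' = ⊤ := by
      rw [eq_top_iff]
      intro x _
      exact (show T ≤ i ⁻¹ᵁ U ⊔ i ⁻¹ᵁ V from hT1.le) x.2
    -- transport of the three vanishing statements
    have tr : ∀ (Q : Z.Opens) (Q' : (T : Scheme.{u}).Opens) (r : ℕ), Q ≤ T → Q' = T.ι ⁻¹ᵁ Q →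
        Subsingleton (HH (Q : Scheme.{u}) ((EtCoh.pull Q.ι).obj G) r) →
        Subsingleton (HH (Q' : Scheme.{u})
          ((EtCoh.pull Q'.ι).obj ((EtCoh.pull T.ι).obj G)) r) := by
      rintro Q Q' r hQ rfl hs
      refine (subsingleton_comp_iff _ T.ι _ rfl G r).1 ?_
      refine transport Q.ι ((T.ι ⁻¹ᵁ Q).ι ≫ T.ι) ?_ G r hs
      ext z
      rw [Scheme.Opens.range_ι]
      constructor
      · intro hz
        exact ⟨⟨⟨z, hQ hz⟩, hz⟩, rfl⟩
      · rintro ⟨y, rfl⟩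
        exact y.2
    refine mv_van T U' V' hU'V' ((EtCoh.pull T.ι).obj G) p ?_ ?_ ?_
    · refine tr (i ⁻¹ᵁ U) U' (p + 1) (by rw [hT1]; exact le_sup_left) rfl ?_
      exact affine_open_case i F hT (p + 1) (hF _ (Nat.succ_pos _)) U (hW _)
    · refine tr (i ⁻¹ᵁ V) V' (p + 1) (by rw [hT1]; exact le_sup_right) rfl ?_
      exact ih (fun k => W k.castSucc) (fun k => hW _) (p + 1) (by omega)
    · let W' : Fin (n + 1) → X.Opens := fun k => W k.castSucc ⊓ U
      have hW' : (⨆ k, W' k) = V ⊓ U := (iSup_inf_eq (fun k : Fin (n + 1) => W k.castSucc) U).symm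
      refine tr (i ⁻¹ᵁ (⨆ k, W' k)) (U' ⊓ V') p ?_ ?_ ?_
      · rw [hT1, hW']
        exact (show i ⁻¹ᵁ (V ⊓ U) ≤ i ⁻¹ᵁ U from fun _ h => h.2).trans le_sup_left
      · rw [hW', inf_comm V U]
        rfl
      · exact ih W' (fun k => hΔ _ _ (hW _) (hW _)) p (by omega)

theorem main (hΔ : ∀ U V : X.Opens, IsAffineOpen U → IsAffineOpen V → IsAffineOpen (U ⊓ V))
    (hT : EtCoh.IsTorsion F)
    (hF : ∀ (q : ℕ), 0 < q → ∀ (V : Scheme.{u}) (j : V ⟶ X) [IsAffine V] [Etale j],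
      Subsingleton (HH V ((EtCoh.pull j).obj F) q)) (n : ℕ)
    (W : Fin (n + 1) → X.Opens) (hW : ∀ k, IsAffineOpen (W k)) (hcov : ⨆ k, W k = ⊤) (q : ℕ)
    (hq : n < q) : Subsingleton (HH Z ((EtCoh.pull i).obj F) q) := by
  have h1 := cov_case i F hΔ hT hF n W hW q hq
  rw [hcov] at h1
  have h2 := transport (i ⁻¹ᵁ (⊤ : X.Opens)).ι (𝟙 Z) (by
    rw [Scheme.Opens.range_ι]
    ext z
    simp) _ q h1
  exact subsingleton_of_isIso' (𝟙 Z) _ q h2

end Cov

end K985.CovVan
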