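import Groth.Agent.Etcore.LocMap
import Groth.Agent.CohtopA.ModExt

/-!
# Étale cohomology of injective sheaves of modules

* `subsingleton_toSheaf`: for an injective sheaf of `A`-modules `I` and `V → X` étale, `H^q(V, I|_V) = 0` for
  `q > 0`.
* `isTorsion_toSheaf`: a module over a torsion sheaf of rings is a torsion sheaf.
-/

set_option autoImplicit false
universe u

open CategoryTheory CategoryTheory.Limits CategoryTheory.Abelian AlgebraicGeometry Opposite
open Groth.Agent Groth.Agent.Etcore Groth.Agent.CohtopA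

namespace K985.InjMod

variable {X : Scheme.{u}}

theorem tf_ZE (V : X.Etale) : TFree.TF (LocMap.ZE V) :=
  TFree.tf_free X.smallEtaleTopology (uliftYoneda.{u + 1}.obj V)

theorem subsingleton_toSheaf (A : Sheaf X.smallEtaleTopology RingCat.{u + 1})
    (I : SheafOfModules.{u + 1} A) [Injective I] (q : ℕ) (hq : 0 < q) {V : Scheme.{u}} (j : V ⟶ X)
    [Etale j] :
    Subsingleton (EtCoh.H V ((EtCoh.pull j).obj ((SheafOfModules.toSheaf A).obj I)) q) := by
  obtain ⟨n, rfl⟩ : ∃ n, q = n + 1 := ⟨q - 1, by omega⟩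
  let V' : X.Etale := Scheme.Etale.mk j
  have h1 : Subsingleton (Ext.{u + 1} (LocMap.ZE V') ((SheafOfModules.toSheaf A).obj I) (n + 1)) :=
    ⟨fun a b => (ModExt.ext_toSheaf_eq_zero I n (tf_ZE V') a).trans
      (ModExt.ext_toSheaf_eq_zero I n (tf_ZE V') b).symm⟩
  exact (LocMap.locMap_bijective V' ((SheafOfModules.toSheaf A).obj I) (n + 1)).2.subsingleton

theorem isOfFinAddOrder_of_one {R M : Type*} [Ring R] [AddCommGroup M] [Module R M]
    (h : IsOfFinAddOrder (1 : R)) (x : M) : IsOfFinAddOrder x := by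
  rw [isOfFinAddOrder_iff_nsmul_eq_zero] at h ⊢
  obtain ⟨n, hn, h⟩ := h
  refine ⟨n, hn, ?_⟩
  rw [← one_smul R x, ← smul_assoc, h, zero_smul]

theorem isTorsion_toSheaf (A : Sheaf X.smallEtaleTopology RingCat.{u + 1})
    (hA : ∀ (U : X.Etale) (s : A.val.obj (op U)) (x : U.left), ∃ (V : X.Etale) (g : V ⟶ U),
      (∃ v : V.left, g.left.base v = x) ∧ IsOfFinAddOrder (A.val.map g.op s))
    (I : SheafOfModules.{u + 1} A) : EtCoh.IsTorsion ((SheafOfModules.toSheaf A).obj I) := by
  intro U s x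
  obtain ⟨V, g, hv, h⟩ := hA U 1 x
  refine ⟨V, g, hv, ?_⟩
  rw [map_one] at h
  exact isOfFinAddOrder_of_one (R := A.obj.obj (op V)) (M := I.val.obj (op V)) h _

end K985.InjMod
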